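import Groth.Agent.S0427
import Groth.Agent.S0736
import Groth.Agent.S12237
import Groth.Agent.WEtNormalLib.Main
import Groth.Prelude.Def_Hens2

/-!
# Specialisation arrows between strict localisations
-/

set_option autoImplicit false
set_option linter.style.haveILetI false
set_option linter.unusedSectionVars false
set_option backward.isDefEq.respectTransparency false
set_option backward.isDefEq.respectTransparency.types false
universe u

open CategoryTheory AlgebraicGeometry IsLocalRing
open scoped TensorProduct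

namespace SpecArrowLib

noncomputable section

variable {O R R' : Type u} [CommRing O] [CommRing R] [CommRing R'] [HenselianLocalRing R']
  [IsSepClosed (ResidueField R')]

theorem bijective_atPrime {T : Type u} [CommRing T] [Algebra R' T] [Algebra.WeaklyEtale R' T] (q : Ideal T) [q.IsPrime]
    (hq : q.comap (algebraMap R' T) = maximalIdeal R') :
    Function.Bijective (algebraMap R' (Localization.AtPrime q)) := by
  haveI : Algebra.WeaklyEtale T (Localization.AtPrime q) :=
    Groth.Agent.WEtNormalLib.weaklyEtale_localization _ _ q.primeCompl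
  haveI : Algebra.WeaklyEtale R' (Localization.AtPrime q) := Algebra.WeaklyEtale.trans R' T (Localization.AtPrime q)
  haveI : IsLocalHom (algebraMap R' (Localization.AtPrime q)) := ⟨fun a ha => by
    rw [IsScalarTower.algebraMap_apply R' T (Localization.AtPrime q)] at ha
    have h1 : algebraMap R' T a ∉ q := fun h => (IsLocalization.AtPrime.isUnit_to_map_iff _ q _).1 ha h
    exact notMem_maximalIdeal.1 fun h => h1 ((SetLike.ext_iff.1 hq a).2 h)⟩
  exact Groth.Agent.S0427.result

variable [Algebra O R] [Algebra O R'] [Algebra.WeaklyEtale O R]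

theorem exists_hom_of_surjective (hs : Function.Surjective (PrimeSpectrum.comap (algebraMap O R))) :
    Nonempty (R →ₐ[O] R') := by
  haveI : Surjective (Spec.map (CommRingCat.ofHom (algebraMap O R))) := ⟨hs⟩
  haveI : Surjective (Spec.map (CommRingCat.ofHom (algebraMap R' (R' ⊗[O] R)))) :=
    MorphismProperty.of_isPullback (P := @Surjective)
      (isPullback_SpecMap_of_isPushout _ _ _ _ (CommRingCat.isPushout_tensorProduct O R' R)).flip ‹_›
  obtain ⟨q, hq⟩ := (Spec.map (CommRingCat.ofHom (algebraMap R' (R' ⊗[O] R)))).surjective (closedPoint R')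
  let s : R' ≃ₐ[R'] Localization.AtPrime q.asIdeal := AlgEquiv.ofBijective (Algebra.ofId R' _)
    (bijective_atPrime q.asIdeal (congrArg PrimeSpectrum.asIdeal hq))
  exact ⟨((s.symm.toAlgHom.restrictScalars O).comp
    (IsScalarTower.toAlgHom O (R' ⊗[O] R) (Localization.AtPrime q.asIdeal))).comp
      Algebra.TensorProduct.includeRight⟩

theorem existsUnique_hom (h : R →ₐ[O] ResidueField R') :
    ∃! φ : R →ₐ[O] R', ∀ r, residue R' (φ r) = h r := by
  let H : R' ⊗[O] R →ₐ[R'] ResidueField R' :=
    Algebra.TensorProduct.lift (Algebra.ofId R' _) h fun _ _ => Commute.all _ _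
  let q := RingHom.ker H.toRingHom
  haveI : q.IsPrime := RingHom.ker_isPrime _
  have hq : q.comap (algebraMap R' (R' ⊗[O] R)) = maximalIdeal R' := Ideal.ext fun a => by
    show H (algebraMap R' _ a) = 0 ↔ _
    rw [H.commutes]
    exact residue_eq_zero_iff a
  have hb := bijective_atPrime q hq
  let s : R' ≃ₐ[R'] Localization.AtPrime q := AlgEquiv.ofBijective (Algebra.ofId R' _) hb
  let σ : R' ⊗[O] R →ₐ[R'] R' := s.symm.toAlgHom.comp (IsScalarTower.toAlgHom R' (R' ⊗[O] R) (Localization.AtPrime q))
  have hσ : ∀ t, residue R' (σ t) = H t := fun t => by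
    obtain ⟨a, ha⟩ : ∃ a, residue R' a = H t := residue_surjective _
    have h1 : t - algebraMap R' _ a ∈ q := by
      show H (t - algebraMap R' _ a) = 0
      rw [map_sub, H.commutes, ← ha]
      exact sub_self _
    have h2 : σ (t - algebraMap R' _ a) ∈ maximalIdeal R' := by
      rw [mem_maximalIdeal]
      intro hu
      have h3 : IsUnit (algebraMap (R' ⊗[O] R) (Localization.AtPrime q) (t - algebraMap R' _ a)) := by
        have := hu.map s
        simpa [σ] using this
      exact (IsLocalization.AtPrime.isUnit_to_map_iff _ q _).1 h3 h1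
    rw [← ha, ← sub_eq_zero, ← map_sub]
    refine (residue_eq_zero_iff _).2 ?_
    rw [map_sub, AlgHom.commutes] at h2
    exact h2
  refine ⟨(σ.restrictScalars O).comp Algebra.TensorProduct.includeRight, fun r => ?_, fun φ hφ => ?_⟩
  · show residue R' (σ (1 ⊗ₜ r)) = h r
    rw [hσ]
    simp [H]
  · let Φ : R' ⊗[O] R →ₐ[R'] R' := Algebra.TensorProduct.lift (Algebra.ofId R' _) φ fun _ _ => Commute.all _ _
    have hΦ : ∀ t, residue R' (Φ t) = H t := fun t => by
      induction t using TensorProduct.induction_on with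
      | zero => simp
      | tmul a r => simp [Φ, H, hφ]
      | add a b ha hb' => simp only [map_add, ha, hb']
    have hu : ∀ t : q.primeCompl, IsUnit (Φ t) := fun t => by
      refine notMem_maximalIdeal.1 fun hm => t.2 ?_
      show H t = 0
      rw [← hΦ]
      exact (residue_eq_zero_iff _).2 hm
    let Φ' : Localization.AtPrime q →ₐ[R'] R' := IsLocalization.liftAlgHom (M := q.primeCompl) (f := Φ) hu
    have hΦ' : ∀ z, Φ' z = s.symm z := fun z => by
      obtain ⟨a, rfl⟩ := s.surjective z
      rw [AlgEquiv.symm_apply_apply]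
      exact (congrArg Φ' (show s a = algebraMap R' _ a from rfl)).trans (Φ'.commutes a)
    refine AlgHom.ext fun r => ?_
    show φ r = σ (1 ⊗ₜ r)
    refine (show φ r = Φ (1 ⊗ₜ r) by simp [Φ]).trans ?_
    refine (IsLocalization.lift_eq (M := q.primeCompl) (S := Localization.AtPrime q) hu _).symm.trans ?_
    exact hΦ' _

variable {X : Scheme.{u}} {x x' : X} {Rx Rx' : Type u} [CommRing Rx] [IsLocalRing Rx]
  [Algebra (X.presheaf.stalk x) Rx] [IsLocalHom (algebraMap (X.presheaf.stalk x) Rx)]
  [hx : Hensel.IsStrictHenselization (X.presheaf.stalk x) Rx] [CommRing Rx'] [IsLocalRing Rx']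
  [Algebra (X.presheaf.stalk x') Rx'] [IsLocalHom (algebraMap (X.presheaf.stalk x') Rx')]
  [hx' : Hensel.IsStrictHenselization (X.presheaf.stalk x') Rx']

theorem specializes_of_point {A : Type u} [CommRing A] (k : Spec (CommRingCat.of A) ⟶ Spec (CommRingCat.of Rx))
    (k' : Spec (CommRingCat.of A) ⟶ Spec (CommRingCat.of Rx')) (p : Spec (CommRingCat.of A))
    (hp : k'.base p = closedPoint Rx') (h : k ≫ Hens2.specOf X x Rx = k' ≫ Hens2.specOf X x' Rx') : x' ⤳ x := by
  have e := congrArg (fun m : Spec (CommRingCat.of A) ⟶ X => m.base p) h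
  simp only [Scheme.Hom.comp_apply] at e
  rw [hp] at e
  have h1 : (Spec.map (CommRingCat.ofHom (algebraMap (X.presheaf.stalk x') Rx'))).base (closedPoint Rx') =
      closedPoint (X.presheaf.stalk x') := IsLocalRing.comap_closedPoint _
  rw [h1] at e
  replace e := e.trans Scheme.fromSpecStalk_closedPoint
  exact e ▸ (Set.ext_iff.1 (X.range_fromSpecStalk (x := x)) _).1 ⟨_, rfl⟩

theorem exists_arrow_iff :
    (∃ g : Spec (CommRingCat.of Rx') ⟶ Spec (CommRingCat.of Rx),
      g ≫ Hens2.specOf X x Rx = Hens2.specOf X x' Rx') ↔ x' ⤳ x := by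
  refine ⟨fun ⟨g, hg⟩ => specializes_of_point g (𝟙 _) _ rfl (by rw [Category.id_comp]; exact hg), fun h => ?_⟩
  haveI := hx'.henselian
  haveI : IsSepClosed (ResidueField Rx') := hx'.isSepClosure.sep_closed
  letI : Algebra (X.presheaf.stalk x) Rx' :=
    ((algebraMap (X.presheaf.stalk x') Rx').comp (X.presheaf.stalkSpecializes h).hom).toAlgebra
  haveI : Algebra.WeaklyEtale (X.presheaf.stalk x) Rx :=
    Groth.Agent.S0736.result _ _ (Groth.Agent.S12237.result (X.presheaf.stalk x) Rx)
  haveI : Module.FaithfullyFlat (X.presheaf.stalk x) Rx := Module.FaithfullyFlat.of_flat_of_isLocalHom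
  obtain ⟨φ⟩ := exists_hom_of_surjective (O := X.presheaf.stalk x) (R := Rx) (R' := Rx')
    PrimeSpectrum.comap_surjective_of_faithfullyFlat
  refine ⟨Spec.map (CommRingCat.ofHom φ.toRingHom), ?_⟩
  have e : CommRingCat.ofHom (algebraMap (X.presheaf.stalk x) Rx) ≫ CommRingCat.ofHom φ.toRingHom =
      X.presheaf.stalkSpecializes h ≫ CommRingCat.ofHom (algebraMap (X.presheaf.stalk x') Rx') :=
    CommRingCat.hom_ext φ.comp_algebraMap
  rw [← Category.assoc, ← Spec.map_comp, e, Spec.map_comp, Category.assoc,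
    Scheme.SpecMap_stalkSpecializes_fromSpecStalk]

theorem arrow_restrict_bijective :
    (∀ g₁ g₂ : Spec (CommRingCat.of Rx') ⟶ Spec (CommRingCat.of Rx),
      g₁ ≫ Hens2.specOf X x Rx = Hens2.specOf X x' Rx' → g₂ ≫ Hens2.specOf X x Rx = Hens2.specOf X x' Rx' →
      Spec.map (CommRingCat.ofHom (residue Rx')) ≫ g₁ = Spec.map (CommRingCat.ofHom (residue Rx')) ≫ g₂ → g₁ = g₂) ∧
    (∀ h : Spec (CommRingCat.of (ResidueField Rx')) ⟶ Spec (CommRingCat.of Rx),
      h ≫ Hens2.specOf X x Rx = Hens2.geomPt X x' Rx' →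
      ∃ g : Spec (CommRingCat.of Rx') ⟶ Spec (CommRingCat.of Rx),
        g ≫ Hens2.specOf X x Rx = Hens2.specOf X x' Rx' ∧ Spec.map (CommRingCat.ofHom (residue Rx')) ≫ g = h) := by
  haveI := hx'.henselian
  haveI : IsSepClosed (ResidueField Rx') := hx'.isSepClosure.sep_closed
  haveI : Algebra.WeaklyEtale (X.presheaf.stalk x) Rx :=
    Groth.Agent.S0736.result _ _ (Groth.Agent.S12237.result (X.presheaf.stalk x) Rx)
  refine ⟨fun g₁ g₂ h₁ h₂ h₃ => ?_, fun h hh => ?_⟩
  · obtain ⟨φ₁, rfl⟩ := Spec.map_surjective g₁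
    obtain ⟨φ₂, rfl⟩ := Spec.map_surjective g₂
    have e := h₁.trans h₂.symm
    rw [← Category.assoc, ← Category.assoc, ← Spec.map_comp, ← Spec.map_comp, cancel_mono, Spec.map_inj] at e
    rw [← Spec.map_comp, ← Spec.map_comp, Spec.map_inj] at h₃
    letI : Algebra (X.presheaf.stalk x) Rx' := (φ₁.hom.comp (algebraMap (X.presheaf.stalk x) Rx)).toAlgebra
    let a₁ : Rx →ₐ[X.presheaf.stalk x] Rx' := { φ₁.hom with commutes' := fun _ => rfl }
    let a₂ : Rx →ₐ[X.presheaf.stalk x] Rx' :=
      { φ₂.hom with commutes' := fun r => (RingHom.congr_fun (congrArg CommRingCat.Hom.hom e) r).symm }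
    obtain ⟨a, -, ha⟩ := existsUnique_hom ((IsScalarTower.toAlgHom (X.presheaf.stalk x) Rx' (ResidueField Rx')).comp a₁)
    have e1 := ha a₁ fun _ => rfl
    have e2 := ha a₂ fun r => (RingHom.congr_fun (congrArg CommRingCat.Hom.hom h₃) r).symm
    exact congrArg Spec.map (CommRingCat.hom_ext (congrArg AlgHom.toRingHom (e1.trans e2.symm)))
  · obtain ⟨η, rfl⟩ := Spec.map_surjective h
    have hsp : x' ⤳ x := specializes_of_point (Spec.map η) (Spec.map (CommRingCat.ofHom (residue Rx')))
      (closedPoint (ResidueField Rx')) (IsLocalRing.comap_closedPoint (residue Rx')) hh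
    letI : Algebra (X.presheaf.stalk x) Rx' :=
      ((algebraMap (X.presheaf.stalk x') Rx').comp (X.presheaf.stalkSpecializes hsp).hom).toAlgebra
    have e : Spec.map η ≫ Spec.map (CommRingCat.ofHom (algebraMap (X.presheaf.stalk x) Rx)) =
        Spec.map (CommRingCat.ofHom (residue Rx')) ≫
          Spec.map (CommRingCat.ofHom (algebraMap (X.presheaf.stalk x') Rx')) ≫
            Spec.map (X.presheaf.stalkSpecializes hsp) := by
      rw [← cancel_mono (X.fromSpecStalk x)]
      simp only [Category.assoc, Scheme.SpecMap_stalkSpecializes_fromSpecStalk]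
      exact hh
    rw [← Spec.map_comp, ← Spec.map_comp, ← Spec.map_comp, Spec.map_inj] at e
    let a : Rx →ₐ[X.presheaf.stalk x] ResidueField Rx' :=
      { η.hom with commutes' := fun r => RingHom.congr_fun (congrArg CommRingCat.Hom.hom e) r }
    obtain ⟨φ, hφ, -⟩ := existsUnique_hom a
    refine ⟨Spec.map (CommRingCat.ofHom φ.toRingHom), ?_, ?_⟩
    · have e' : CommRingCat.ofHom (algebraMap (X.presheaf.stalk x) Rx) ≫ CommRingCat.ofHom φ.toRingHom =
          X.presheaf.stalkSpecializes hsp ≫ CommRingCat.ofHom (algebraMap (X.presheaf.stalk x') Rx') :=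
        CommRingCat.hom_ext φ.comp_algebraMap
      rw [← Category.assoc, ← Spec.map_comp, e', Spec.map_comp, Category.assoc,
        Scheme.SpecMap_stalkSpecializes_fromSpecStalk]
    · rw [← Spec.map_comp]
      exact congrArg Spec.map (CommRingCat.hom_ext (RingHom.ext hφ))

end

end SpecArrowLib
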